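import Cfsg.Agent.Lib.Recog.SporBound.Sound
import Cfsg.Agent.Lib.Recog.SporBound.HeldM24.Tree0
import Cfsg.Agent.Lib.Recog.SporBound.HeldM24.Tree1

set_option autoImplicit false
set_option maxRecDepth 20000

/-! Generated closure certificate: Held type, M24 pattern over N (owner: lead). -/

namespace CfsgLib.Recog.SporBound.HeldM24
open CfsgLib.Recog.SporBound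

noncomputable def factTree : Q (ℕ) := (.node ft10 ft20 ft30 ft40)
noncomputable def nodeTree : Q (ℕ) := ct14
noncomputable def stepTree : Q (List ℕ) := (.node st12 st24 st36 st48)
noncomputable def finalTree : Q (List ℕ) := (.node (.node et9 et19 et29 et38) (.node et48 et58 et68 et77) (.node et87 et97 et107 et116) (.node et126 et136 et145 et154))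

/-- The certificate. -/
noncomputable def cert : Cert where
  n := 1771
  nd := 1865
  nf := 4707
  kl := [0, 1, 2, 3, 4]
  facts := factTree
  cn := nodeTree
  steps := stepTree
  finals := finalTree
  rels := [[0, 0], [1, 1], [2, 2], [3, 3], [4, 4], [0, 1, 0, 1, 0, 1, 0, 1, 0, 1, 0, 1, 0, 1, 0, 1], [0, 2, 0, 2, 0, 2, 0, 2], [0, 3, 0, 3, 0, 3, 0, 3, 0, 3, 0, 3], [0, 4, 0, 4, 0, 4, 0, 4, 0, 4, 0, 4, 0, 4, 0, 4, 0, 4, 0, 4, 0, 4, 0, 4], [1, 2, 1, 2, 1, 2, 1, 2, 1, 2, 1, 2], [1, 3, 1, 3], [1, 4, 1, 4, 1, 4, 1, 4, 1, 4, 1, 4, 1, 4, 1, 4, 1, 4, 1, 4, 1, 4, 1, 4], [2, 3, 2, 3, 2, 3, 2, 3, 2, 3, 2, 3], [2, 4, 2, 4, 2, 4, 2, 4, 2, 4, 2, 4], [3, 4, 3, 4, 3, 4, 3, 4, 3, 4, 3,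 4], [1, 3, 1, 3], [0, 2, 0, 2, 0, 2, 0, 2], [0, 1, 0, 1, 0, 1, 0, 2, 1, 2, 1, 2], [0, 1, 2, 0, 2, 1, 0, 1, 2, 0, 2, 1], [1, 2, 1, 2, 1, 2, 1, 2, 1, 2, 1, 2], [1, 2, 1, 2, 3, 2, 1, 2, 1, 2, 3, 2], [1, 2, 1, 3, 2, 1, 3, 2, 3, 1, 2, 3], [1, 2, 1, 3, 2, 1, 3, 2, 1, 3, 2, 3], [0, 2, 3, 2, 0, 3, 0, 2, 3, 2, 0, 3], [1, 2, 3, 2, 3, 2, 1, 2, 3, 2, 3, 2], [0, 3, 0, 3, 0, 3, 0, 3, 0, 3, 0, 3], [0, 3, 2, 3, 2, 3, 0, 3, 2, 3, 2, 3], [2, 3, 2, 3, 2, 3, 2, 3, 2, 3, 2, 3], [0, 1, 2, 1, 3, 2, 1, 0, 3, 1, 2, 3, 1], [0, 1, 2, 3, 2, 1, 2, 0, 3, 2, 1, 2, 3], [0, 1, 3, 2, 1, 3, 0, 3, 2, 3, 1, 2, 3], [0, 1, 2, 1, 3, 2, 1, 0, 1, 3, 2, 3, 1], [0, 1, 2, 1, 3, 2, 1, 0, 3, 1, 2, 1, 3], [0, 3, 1,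 2, 1, 3, 0, 3, 2, 1, 3, 2, 3], [0, 1, 3, 2, 3, 1, 0, 3, 2, 1, 3, 2, 3], [0, 1, 0, 1, 0, 1, 0, 1, 2, 1, 2, 1, 2, 1], [0, 1, 0, 1, 0, 1, 0, 2, 1, 2, 3, 1, 3, 2], [0, 1, 0, 1, 0, 1, 0, 3, 2, 1, 2, 1, 2, 3], [0, 1, 0, 1, 2, 0, 1, 0, 2, 0, 1, 0, 2, 1], [0, 1, 2, 1, 2, 1, 2, 0, 2, 1, 2, 1, 2, 1], [0, 1, 2, 1, 3, 2, 3, 0, 2, 0, 3, 1, 0, 2], [0, 1, 2, 3, 1, 2, 3, 0, 2, 0, 1, 3, 0, 2], [0, 1, 0, 1, 2, 0, 2, 1, 0, 1, 0, 2, 0, 2], [0, 1, 2, 1, 2, 1, 2, 0, 1, 2, 1, 2, 1, 2], [0, 1, 2, 0, 2, 1, 0, 1, 2, 0, 2, 3, 1, 3], [0, 1, 2, 1, 3, 2, 3, 0, 2, 0, 1, 3, 0, 2], [1, 2, 1, 2, 1, 2, 1, 2, 1, 2, 3, 1, 3, 2], [1, 2, 1, 2, 1, 2, 1, 3, 2, 1, 2, 1, 2, 3], [1, 2, 1, 2, 3, 2, 1, 2, 3, 1, 3,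 2, 3, 2], [1, 2, 1, 2, 3, 2, 1, 3, 2, 3, 2, 1, 2, 3], [0, 1, 2, 3, 1, 2, 3, 0, 2, 0, 3, 1, 0, 2], [1, 2, 3, 2, 3, 2, 3, 1, 3, 2, 3, 2, 3, 2], [0, 1, 0, 1, 0, 2, 1, 2, 1, 2, 0, 3, 1, 3], [0, 1, 0, 2, 1, 2, 1, 2, 0, 1, 0, 3, 1, 3], [0, 2, 3, 2, 3, 2, 3, 2, 0, 3, 2, 3, 2, 3], [0, 2, 0, 2, 0, 2, 0, 2], [0, 1, 0, 1, 0, 1, 0, 2, 1, 2, 1, 2], [0, 1, 2, 0, 2, 1, 0, 1, 2, 0, 2, 1], [0, 2, 0, 4, 0, 2, 0, 4, 0, 2, 0, 4], [1, 2, 1, 2, 1, 2, 1, 2, 1, 2, 1, 2], [2, 4, 2, 4, 2, 4, 2, 4, 2, 4, 2, 4], [0, 1, 2, 1, 4, 2, 1, 0, 4, 2, 4, 0, 4], [0, 1, 0, 1, 0, 1, 0, 1, 2, 1, 2, 1, 2, 1], [0, 1, 0, 1, 2, 0, 1, 0, 2, 0, 1, 0, 2, 1], [0, 1, 2, 1, 2, 1, 2, 0, 2, 1, 2, 1, 2, 1], [0, 1, 0, 1, 2,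 0, 2, 1, 0, 1, 0, 2, 0, 2], [0, 1, 2, 1, 2, 1, 2, 0, 1, 2, 1, 2, 1, 2], [0, 2, 0, 2, 4, 0, 2, 0, 4, 0, 2, 0, 4, 2], [0, 1, 0, 1, 0, 1, 4, 1, 4, 1, 4, 0, 4, 0, 4], [0, 1, 0, 2, 0, 4, 2, 1, 2, 0, 4, 0, 2, 4, 2], [0, 1, 4, 1, 2, 4, 1, 4, 0, 2, 1, 4, 2, 0, 2], [0, 1, 4, 2, 0, 2, 1, 2, 4, 2, 4, 0, 2, 1, 4], [0, 2, 0, 2, 1, 4, 1, 2, 4, 1, 4, 0, 2, 1, 4], [0, 2, 1, 2, 1, 2, 4, 0, 4, 0, 4, 1, 4, 1, 4], [0, 1, 0, 1, 0, 1, 2, 0, 2, 0, 2, 0, 1, 2, 1, 2], [0, 1, 0, 1, 0, 2, 0, 1, 2, 1, 2, 0, 1, 2, 0, 2], [0, 1, 0, 1, 2, 0, 1, 2, 0, 2, 0, 2, 1, 0, 2, 1], [0, 1, 0, 1, 2, 0, 1, 2, 1, 0, 1, 0, 2, 0, 1, 2], [0, 1, 0, 1, 2, 1, 0, 2, 0, 1, 0, 2, 1, 2, 0, 2], [0, 1, 0, 1, 2, 4, 2, 1, 0, 1,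 0, 4, 2, 1, 2, 4], [0, 1, 0, 1, 4, 0, 4, 0, 4, 0, 2, 0, 4, 1, 4, 2], [0, 1, 0, 1, 4, 0, 4, 2, 0, 4, 0, 2, 0, 1, 4, 2], [0, 1, 0, 1, 4, 1, 2, 1, 4, 1, 0, 1, 0, 4, 2, 4], [0, 1, 0, 1, 2, 1, 2, 1, 0, 1, 0, 2, 0, 1, 0, 2], [0, 1, 0, 2, 0, 1, 2, 0, 2, 0, 1, 2, 1, 2, 0, 2], [0, 1, 0, 2, 0, 1, 2, 1, 0, 1, 2, 0, 2, 0, 1, 2], [0, 1, 0, 1, 2, 0, 2, 0, 1, 0, 2, 1, 2, 1, 0, 2], [0, 1, 0, 2, 0, 1, 0, 2, 0, 2, 1, 2, 1, 2, 0, 2], [0, 1, 0, 2, 0, 2, 4, 0, 4, 1, 4, 0, 4, 2, 0, 2], [0, 1, 0, 1, 2, 0, 1, 0, 2, 1, 0, 1, 0, 2, 1, 2], [0, 1, 0, 2, 4, 0, 4, 1, 2, 4, 2, 0, 2, 1, 2, 4], [0, 1, 0, 4, 1, 0, 2, 4, 0, 4, 0, 1, 4, 0, 2, 4], [0, 1, 2, 0, 1, 2, 1, 2, 0, 2, 1, 2, 1, 0, 2, 1], [0, 1, 2,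 0, 2, 4, 1, 2, 4, 0, 4, 0, 1, 4, 2, 4], [0, 1, 2, 0, 4, 2, 1, 0, 1, 4, 0, 4, 1, 2, 1, 4], [1, 3, 1, 3], [0, 4, 1, 3, 4, 0, 4, 1, 3, 4], [0, 4, 1, 3, 4, 0, 4, 3, 1, 4], [0, 3, 0, 3, 0, 3, 0, 3, 0, 3, 0, 3], [0, 3, 4, 0, 3, 4, 0, 3, 4, 0, 3, 4], [3, 4, 3, 4, 3, 4, 3, 4, 3, 4, 3, 4], [0, 1, 4, 0, 4, 1, 0, 3, 0, 4, 0, 4, 0, 3], [0, 3, 0, 3, 4, 0, 4, 3, 0, 3, 0, 4, 0, 4], [0, 1, 3, 1, 4, 0, 3, 4, 0, 3, 4, 0, 3, 4], [1, 3, 1, 4, 3, 4, 3, 4, 3, 4, 3, 4, 3, 4], [0, 1, 0, 1, 0, 1, 4, 1, 4, 1, 4, 0, 4, 0, 4], [0, 1, 0, 1, 3, 4, 3, 0, 1, 3, 0, 3, 4, 3, 1], [0, 1, 0, 3, 1, 4, 3, 0, 1, 3, 0, 3, 4, 1, 3], [0, 1, 0, 1, 3, 4, 3, 0, 3, 1, 0, 3, 4, 1, 3], [0, 1, 3, 0, 4, 1, 0, 1, 4, 3,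 4, 1, 0, 1, 4], [0, 1, 4, 3, 0, 4, 1, 3, 4, 1, 4, 3, 4, 0, 3], [0, 1, 4, 3, 0, 4, 3, 1, 4, 1, 4, 3, 4, 0, 3], [0, 1, 4, 3, 4, 0, 3, 0, 1, 4, 3, 4, 3, 1, 4], [0, 1, 4, 3, 4, 0, 3, 0, 1, 4, 3, 4, 1, 3, 4], [0, 3, 4, 0, 4, 0, 3, 4, 0, 4, 0, 3, 4, 0, 4], [0, 1, 0, 1, 0, 1, 0, 1, 0, 1, 0, 1, 0, 1, 0, 1], [0, 1, 0, 1, 0, 1, 0, 3, 0, 1, 0, 1, 0, 1, 0, 3], [0, 1, 0, 3, 0, 1, 0, 3, 0, 1, 0, 3, 0, 1, 0, 3], [0, 1, 3, 0, 4, 0, 4, 3, 0, 3, 4, 0, 1, 4, 1, 4], [0, 1, 3, 0, 4, 1, 4, 1, 0, 4, 3, 0, 3, 4, 0, 4], [0, 1, 3, 4, 1, 3, 0, 1, 3, 4, 3, 1, 4, 3, 1, 4], [0, 1, 3, 4, 1, 3, 0, 3, 1, 4, 3, 1, 4, 3, 1, 4], [0, 1, 3, 4, 1, 3, 0, 4, 0, 3, 1, 4, 3, 1, 0, 4], [0, 1, 3, 4, 1, 3, 0, 4, 1,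 3, 4, 3, 1, 4, 3, 1], [0, 1, 3, 4, 1, 3, 0, 4, 3, 1, 4, 3, 1, 4, 3, 1], [0, 1, 3, 1, 0, 1, 4, 0, 4, 1, 0, 3, 0, 4, 0, 4], [0, 1, 4, 3, 4, 1, 0, 4, 0, 1, 4, 3, 4, 1, 0, 4], [0, 1, 3, 4, 1, 3, 0, 4, 3, 1, 4, 3, 1, 4, 1, 3], [0, 1, 3, 4, 1, 3, 4, 3, 1, 4, 0, 3, 1, 4, 1, 3], [0, 1, 3, 4, 1, 3, 0, 4, 0, 3, 1, 4, 1, 3, 0, 4], [0, 1, 3, 4, 3, 1, 0, 4, 0, 3, 1, 4, 1, 3, 0, 4], [0, 1, 3, 4, 3, 1, 4, 3, 1, 4, 0, 3, 1, 4, 1, 3], [0, 1, 3, 4, 1, 3, 0, 3, 1, 4, 3, 1, 4, 1, 3, 4], [0, 1, 3, 4, 3, 1, 0, 3, 1, 4, 3, 1, 4, 1, 3, 4], [0, 1, 4, 0, 4, 1, 3, 4, 3, 4, 0, 3, 4, 0, 3, 4]]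
  subs := [[0], [1], [3], [4]]

/-- Chains of the traced words. -/
noncomputable def closers : List ℕ := []

end CfsgLib.Recog.SporBound.HeldM24
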