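import Cfsg.Agent.Lib.Recog.SporBound.HeldM24.Data

set_option autoImplicit false
set_option maxRecDepth 20000
set_option Elab.async false

/-! Checks of the certificate, part 0. -/

namespace CfsgLib.Recog.SporBound.HeldM24
open CfsgLib.Recog.SporBound
open CfsgLib.ThreeTrans.CosetIndex (forallFrom)

theorem defs0 : forallFrom cert.defOK 0 1500 = true := by decide +kernel

theorem defs1 : forallFrom cert.defOK 1500 365 = true := by decide +kernel

theorem steps0 : cert.stepsPart 0 20 = true := by decide +kernel

theorem steps1 : cert.stepsPart 20 20 = true := by decide +kernel

end CfsgLib.Recog.SporBound.HeldM24
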